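import Mathlib
import Cfsg.Agent.Lib.Comput.Check3
import Cfsg.Agent.Lib.LieModel.Tits.P.Data

/-! generated by tools/cgt -/

set_option autoImplicit false
set_option maxRecDepth 100000
set_option Elab.async false

namespace CfsgLib.LieModel.Tits.P

open CfsgLib.Comput

def R8_0 : RepC := ⟨39, 1, [],
  []⟩
def S8_0 : GenC := ⟨39, [],
  [(0, 0, 0, 1, 0), (0, 1, 0, 0, 0)], 0⟩
def L8 : Level := ⟨0x0, 0x4000000000, [], 1, 91, 0, 2, [R8_0], [S8_0]⟩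
def X8 : Ext := []

def R7_0 : RepC := ⟨37, 1, [(39, 39)],
  [(92, 1, [1])]⟩
def R7_1 : RepC := ⟨36, 1, [(39, 39)],
  [(91, 1, [1])]⟩
def R7_2 : RepC := ⟨0x2425, 1, [(39, 39)],
  [(91, 1, [1])]⟩
def S7_0 : GenC := ⟨37, [(39, 39)],
  [(0, 0, 0, 1, 0), (0, 1, 0, 0, 0), (0, 2, 0, 3, 0), (0, 3, 0, 2, 0)], 0⟩
def S7_1 : GenC := ⟨36, [(39, 39)],
  [(0, 0, 0, 2, 0), (0, 1, 0, 3, 0), (0, 2, 0, 0, 0), (0, 3, 0, 1, 0)], 0⟩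
def L7 : Level := ⟨0x4000000000, 0x7800000000, [39], 2, 27, 0, 4, [R7_0, R7_1, R7_2], [S7_0, S7_1]⟩
def X7 : Ext := [(37, 0, 39)]

def R6_0 : RepC := ⟨28, 1, [(36, 36), (0x2527, 0x2527), (39, 39)],
  [(220, 1, [1, 2, 3])]⟩
def S6_0 : GenC := ⟨28, [(37, 37)],
  [(0, 0, 0, 1, 0), (0, 1, 0, 0, 39)], 0⟩
def L6 : Level := ⟨0x7800000000, 0x780c000000, [37, 36, 39], 8, 15, 0, 2, [R6_0], [S6_0]⟩
def X6 : Ext := [(26, 28, 0)]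

def R5_0 : RepC := ⟨31, 1, [(0x1c25, 0x1c25), (28, 28), (36, 36)],
  [(225, 3, [1, 2, 3])]⟩
def R5_1 : RepC := ⟨33, 1, [(28, 28), (0x1c24, 0x1c24), (0x1c25, 0x1c25)],
  [(219, 3, [1, 2, 3])]⟩
def R5_2 : RepC := ⟨0x211f, 1, [(28, 28), (0x1c2527, 0x1c2527), (0x2427, 0x2427)],
  [(222, 3, [1, 2, 3])]⟩
def S5_0 : GenC := ⟨31, [(0x2427, 0x2427)],
  [(0, 0, 0, 1, 0), (0, 1, 0, 0, 0), (0, 2, 0, 3, 0), (0, 3, 0, 2, 0)], 0⟩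
def S5_1 : GenC := ⟨33, [(36, 36)],
  [(0, 0, 0, 2, 0), (0, 1, 0, 3, 0), (0, 2, 0, 0, 39), (0, 3, 0, 1, 39)], 0⟩
def L5 : Level := ⟨0x780c000000, 0x7fcc000000, [28, 37, 36, 39], 16, 11, 0, 4, [R5_0, R5_1, R5_2], [S5_0, S5_1]⟩
def X5 : Ext := [(31, 33, 0), (33, 0, 37), (34, 0, 0x211c2425)]

def R4_0 : RepC := ⟨24, 1, [(0x212427, 0x2125), (0x1f1c, 0x1f1c242527), (37, 37), (0x1f24, 0x1f2427), (33, 0x21242527)],
  [(826, 3, [1, 2, 3, 4, 5])]⟩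
def S4_0 : GenC := ⟨24, [(0x1f1c, 0x1f1c242527)],
  [(0, 0, 0, 1, 0), (0, 1, 0, 0, 37)], 0⟩
def L4 : Level := ⟨0x7fcc000000, 0x7fffc00000, [31, 33, 28, 37, 36, 39], 64, 7, 0, 2, [R4_0], [S4_0]⟩
def X4 : Ext := [(22, 24, 0), (24, 0, 0x211f2425), (25, 25, 0), (28, 0, 0x212425), (29, 29, 0)]

def R3_0 : RepC := ⟨18, 1, [(28, 0x212425), (36, 36), (0x181c, 0x181c27), (0x1f25, 0x1f2527), (0x211f2425, 0x1f1c)],
  [(737, 2, [1, 2, 3, 4, 5])]⟩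
def S3_0 : GenC := ⟨18, [(0x2427, 0x2427)],
  [(0, 0, 0, 1, 0), (0, 1, 0, 0, 0x211f1c242527)], 0⟩
def L3 : Level := ⟨0x7fffc00000, 0x7fffff0000, [24, 31, 33, 28, 37, 36, 39], 128, 5, 0, 2, [R3_0], [S3_0]⟩
def X3 : Ext := [(16, 18, 0), (18, 0, 0x12181c24), (19, 19, 0), (20, 0, 0x1218211f1c2427), (21, 21, 0)]

def R2_0 : RepC := ⟨0xf0f, 1, [(0x1f1c25, 0x1f1c242527), (0x1821, 0x182127), (0x12182427, 0x121825)],
  [(797, 5, [1, 2, 3])]⟩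
def R2_1 : RepC := ⟨11, 2, [(0x1c24, 0x212427), (0x121f2425, 0x1218211c242527), (0x1f25, 0x211f1c2427), (0x2425, 0x2527)],
  [(820, 4, [1, 2, 3, 4])]⟩
def R2_2 : RepC := ⟨12, 2, [(0x1f1c, 0x1f1c242527), (31, 0x211f1c), (0x1218, 0x12211f1c2527), (0x12182425, 0x12211f1c)],
  [(1132, 3, [1, 2, 3, 4])]⟩
def R2_3 : RepC := ⟨16, 2, [(0x1f1c, 0x211f2425), (0x181c24, 0x181c2527), (0x1f2427, 0x1f25), (0x182124, 0x1821242527)],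
  [(742, 3, [1, 2, 3, 4])]⟩
def S2_0 : GenC := ⟨12, [(0x121f, 0x1218211c24)],
  [(0, 0, 0, 3, 0), (0, 2, 0, 0, 0), (0, 3, 18, 4, 0x1c25), (0, 4, 24, 2, 0x1218211f27), (24, 2, 0, 1, 0x18211f1c24), (0, 1, 24, 3, 0x18211f1c27)], 1⟩
def L2 : Level := ⟨0x7fffff0000, 0x7ffffffc00, [18, 24, 31, 33, 28, 37, 36, 39], 256, 3, 0, 8, [R2_0, R2_1, R2_2, R2_3], [S2_0]⟩
def X2 : Ext := [(10, 12, 0), (12, 0, 0x181c), (13, 13, 0), (14, 0, 0xc0c12212425), (15, 15, 0)]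

def R1_0 : RepC := ⟨0x71808, 1, [(0xf0f121825, 0xf0f1218211c242527), (0xc1827, 0x180c1218212427), (0xc181c, 0x180c1218211f1c25)],
  [(515, 5, [1, 2, 3]), (15, 3, [1])]⟩
def R1_1 : RepC := ⟨0xb08, 8, [(0x1225, 0x181f1c2527), (0x1824, 0xf0f121f1c2527), (0x181c2425, 0xf0f122527)],
  [(1193, 5, [1, 2, 3])]⟩
def S1_0 : GenC := ⟨8, [(0x1827, 0x12181c2427), (0x211c, 0x211f1c), (0xf0f121c24, 0xf0f18211f1c242527)],
  [(0, 0, 12, 2, 0), (16, 2, 0, 0, 0xf0c121c2427), (12, 2, 11, 2, 0xf0c12181f25), (11, 2, 16, 2, 0xf1218211c242527), (0, 2, 0, 2, 0x180c12181f25), (15, 2, 0, 1, 0xb18), (0, 1, 0x180c, 2, 0)], 1⟩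
def L1 : Level := ⟨0x7ffffffc00, 0x7fffffffc0, [12, 18, 24, 31, 33, 28, 37, 36, 39], 2048, 1, 0, 10, [R1_0, R1_1], [S1_0]⟩
def X1 : Ext := [(6, 8, 0), (8, 0, 0x70f18212427), (9, 9, 0)]

def R0_0 : RepC := ⟨0x201, 10, [(0xf0f12182527, 0x180c211f1c27), (0xf0c27, 0x12211f1c27), (0xf12181f2425, 0xf0f181c27)],
  [(506, 6, [1, 2, 3]), (11, 3, [1])]⟩
def R0_1 : RepC := ⟨0x10301, 80, [(0xb1821, 0x180c18211f2527), (0xc211f27, 0xf12181c24), (0x180c1827, 0x180c211f1c27)],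
  [(340, 4, [1, 2, 3])]⟩
def R0_2 : RepC := ⟨0x103010301, 640, [(0x180c1f2427, 0xf1218211f1c27), (0xc211f25, 0xb18212425)],
  [(54, 5, [1, 2])]⟩
def R0_3 : RepC := ⟨0x1030103010301, 1024, [(0xc080f18212425, 0xb081218211c24), (0xf0c121f1c25, 0xb211c24)],
  [(39, 4, [1, 2])]⟩
def S0_0 : GenC := ⟨1, [(0x1025, 0xc18211f25), (0xf0f1f2527, 0x211c27), (0x180c211f, 0xf211f1c242527)],
  [(0, 0, 0x71808, 1, 0xc211f), (0x71808, 1, 0, 0, 0xb211f27), (0, 1, 0, 1, 0x7180812181f1c27), (8, 1, 0, 2, 0xf0c12182127), (0, 2, 8, 1, 0x180c18211c2427), (0x81307, 2, 0xa0c08, 2, 0xf121f1c27), (7, 2, 0x1121, 3, 0x10121f24), (0, 3, 0x1808, 2, 0x181c25), (0x71208, 3, 0x81609, 3, 0xf0c12181c25), (9, 3, 0x150c, 4, 0xf0c122527), (0, 4, 0x120827, 3, 0xf12211f2427), (7, 4, 0xd0825, 4, 0x718080c1221)], 5⟩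
def L0 : Level := ⟨0x7fffffffc0, 0x7fffffffff, [8, 12, 18, 24, 31, 33, 28, 37, 36, 39], 20480, 0, 0, 1755, [R0_0, R0_1, R0_2, R0_3], [S0_0]⟩
def X0 : Ext := [(1, 0, 0x7180812181f1c27), (2, 0, 0x1808181c25), (3, 3, 0), (4, 0, 0x180c1218211f2527), (5, 5, 0)]

def top : List ℕ := [1, 2, 3, 5]
def gs : List ℕ := [1, 8, 12, 18, 24, 31, 33, 28, 37, 36, 39]
def XD : Ext := [(3, 3, 0), (5, 5, 0), (6, 0, 0x102030104010401040603020603010303010301030201), (7, 7, 0), (8, 0, 0x102040401040104010203010205030103010301), (9, 9, 0), (10, 0, 0x9070a070a0707), (11, 11, 0), (12, 0, 0x90709090707), (13, 13, 0), (14, 0, 0x90707090707), (15, 15, 0), (16, 0, 0x10100e0b100b), (17, 17, 0), (18, 0, 0xc0f0c0f0f), (19, 19, 0), (20, 0, 0xc0d0c10), (21, 21, 0), (22, 0, 0x1215), (23, 23, 0), (24, 0, 0x12131611), (25, 25, 0), (26, 0, 0x11151411), (27, 27,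 0), (28, 0, 0x13161111), (29, 29, 0), (30, 0, 0x1a1d), (31, 0, 0x181d17), (32, 32, 0), (33, 0, 0x1818), (34, 0, 0x181b1d17), (35, 0, 0x22231b20), (36, 0, 0x212220), (37, 0, 0x1c1c), (38, 0, 0x242624)]
def MX : Level.MaxC := [[(0x71808, [0xc211f])], [(0x71808, [21, 0x71808180c1f242527])], [(0x71808, [0x1420, 0x718080c2425])], [(7, [0x91a, 0x70f211c])]]

/-- all the equations of the certificate -/
structure Eqs {G : Type*} [Group G] (g : ℕ → G) : Prop where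
  l8 : AllHold g L8.eqns
  x8 : AllHold g X8.eqns
  l7 : AllHold g L7.eqns
  x7 : AllHold g X7.eqns
  l6 : AllHold g L6.eqns
  x6 : AllHold g X6.eqns
  l5 : AllHold g L5.eqns
  x5 : AllHold g X5.eqns
  l4 : AllHold g L4.eqns
  x4 : AllHold g X4.eqns
  l3 : AllHold g L3.eqns
  x3 : AllHold g X3.eqns
  l2 : AllHold g L2.eqns
  x2 : AllHold g X2.eqns
  l1 : AllHold g L1.eqns
  x1 : AllHold g X1.eqns
  l0 : AllHold g L0.eqns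
  x0 : AllHold g X0.eqns
  xd : AllHold g XD.eqns
  mx : AllHold g (L0.maxEqns MX)

end CfsgLib.LieModel.Tits.P
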